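import Cfsg.Agent.Lib.Helper6.Spor.J2Ord

set_option autoImplicit false

/-! # Packed permutations of 100 points representing elements of the presented group `J2` -/

namespace Cfsg.Agent.Lib.Helper4.J2S

open Cfsg.Agent.Lib.Helper6.TC Cfsg.Agent.Lib.Helper6.TCD
open Cfsg.Agent.Lib.Helper6.TCP.J2

/-- the value at `q` of a permutation packed in a natural number, seven bits for each point -/
def ap (pk q : ℕ) : ℕ := Nat.land (Nat.shiftRight pk (Nat.mul 7 (Nat.land q 127))) 127

def HEX0 : ℕ := 0xc77f0e0c5629d2b76acde8f5a554bb724c87ef9ecc97568d0aeddb398709c319f3a6ae5aea2418d154ab66aa02446f1da068c9a9f3c74d305e64c2c509d3142695121203c71c362c4172c5438624284911a300840608280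
def HEX1 : ℕ := 0xbd8ae57b18eee19f3aadfc112cc18f028d0b76a53c7735cb8a71a2d668caa5260bdecc96b24c856a9ac34d098bf7c890ba6ed8ea84ecd2a446b96952e5949c3644c983e7900d1848d0a1238a130a40782080c5870c20001
def HEX2 : ℕ := 0xc7730e0a5427e2b75a5c88b6a5547f7df5ebb25dccb3567586cf2bb987098b8a7456c69aea2405d1d62766920aa5eddeb53cc1028686d2b246590a93eac9974c6879838886103a449143218395101048b1a3808a0600282
def HEX3 : ℕ := 0xc176d63a75f14e9986a47bd0e0d9befa33d797245b74e1bcdb145ab4acceaaf5d4a84f592d5ca92a62c484991a280fd03b7275b1c4ac939962c0aad2869528247920e1a4509f166cb071060b85261010f200460a0024303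
def HEX4 : ℕ := 0xc176de3a75f14fc32eb47bd66242befdec5b8ee4bab4e66b6b0d68556751930a4b68ac9d3252a532232687052404281f3c3ae1ba536d143130557ae344d5924e7c723223110b3c70b880c642962808190023c6801228384

/-- the packed identity -/
def IDPK : ℕ := 0xc78b0e0bf7aedcb76acd8af5aad4a74a8d09f3a6cc972a4c88f1a2c4870a0c07ef9ebc76e9cb86ed9ab466c98b05eb96ac56a94a84e992a446890a03e78e9c3668c982e58a9426488901e3868c16284880e182840608080

theorem P0_eq (p : ℕ) : J2a.P0 p = ap HEX0 p := rfl
theorem P1_eq (p : ℕ) : J2a.P1 p = ap HEX1 p := rfl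
theorem P2_eq (p : ℕ) : J2a.P2 p = ap HEX2 p := rfl
theorem P3_eq (p : ℕ) : J2a.P3 p = ap HEX3 p := rfl
theorem P4_eq (p : ℕ) : J2a.P4 p = ap HEX4 p := rfl

/-- the faithful permutation representation on 100 points -/
noncomputable def phi : G →* Equiv.Perm (Fin 100) := Classical.choose Cfsg.Agent.Lib.Helper6.J2Ord.rep

theorem phi_word (w : List ℕ) (hw : ∀ c ∈ w, c < 5) (p : Fin 100) :
    ((phi (PresentedGroup.mk Rels (wordElt gc w)))⁻¹ p).val = wapp J2a.px w p.val :=
  (Classical.choose_spec Cfsg.Agent.Lib.Helper6.J2Ord.rep).1 w hw p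

theorem phi_injective : Function.Injective phi :=
  (Classical.choose_spec Cfsg.Agent.Lib.Helper6.J2Ord.rep).2.2.1

theorem card_G : Nat.card G = 604800 :=
  (Classical.choose_spec Cfsg.Agent.Lib.Helper6.J2Ord.rep).2.2.2.1

instance finite_G : Finite G :=
  (Classical.choose_spec Cfsg.Agent.Lib.Helper6.J2Ord.rep).2.2.2.2

/-- the right action on the points -/
noncomputable def act (g : G) (p : Fin 100) : Fin 100 := (phi g)⁻¹ p

theorem act_one (p : Fin 100) : act 1 p = p := by
  unfold act
  rw [map_one, inv_one, Equiv.Perm.one_apply]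

theorem act_mul (g h : G) (p : Fin 100) : act (g * h) p = act h (act g p) := by
  unfold act
  rw [map_mul, mul_inv_rev, Equiv.Perm.mul_apply]

theorem act_pow (g : G) (n : ℕ) (p : Fin 100) : act (g ^ n) p = (act g)^[n] p := by
  induction n generalizing p with
  | zero => rw [pow_zero, act_one, Function.iterate_zero, id]
  | succ n ih => rw [pow_succ', act_mul, ih, Function.iterate_succ, Function.comp]

theorem eq_one_of_act {g : G} (h : ∀ p, act g p = p) : g = 1 := by
  apply phi_injective
  rw [map_one]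
  have : (phi g)⁻¹ = 1 := Equiv.ext fun p => h p
  rw [inv_eq_one] at this
  exact this

theorem eq_of_act {g h : G} (e : ∀ p, act g p = act h p) : g = h := by
  have : g * h⁻¹ = 1 := by
    apply eq_one_of_act
    intro p
    rw [act_mul, e p, ← act_mul, mul_inv_cancel, act_one]
  exact mul_inv_eq_one.mp this

/-- a packed permutation represents an element of the group -/
def Rep (pk : ℕ) (g : G) : Prop := ∀ p : Fin 100, (act g p).val = ap pk p.val

theorem Rep.inj {pk : ℕ} {g h : G} (hg : Rep pk g) (hh : Rep pk h) : g = h :=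
  eq_of_act fun p => Fin.ext ((hg p).trans (hh p).symm)

theorem Rep.lt {pk : ℕ} {g : G} (hg : Rep pk g) {q : ℕ} (hq : q < 100) : ap pk q < 100 := by
  rw [← hg ⟨q, hq⟩]
  exact Fin.is_lt _

theorem Rep.apply {pk : ℕ} {g : G} (hg : Rep pk g) {q : ℕ} (hq : q < 100) :
    act g ⟨q, hq⟩ = ⟨ap pk q, hg.lt hq⟩ := Fin.ext (hg ⟨q, hq⟩)

theorem rep_one : Rep IDPK 1 := by
  intro p
  rw [act_one]
  have : ∀ q < 100, q = ap IDPK q := by decide +kernel
  exact this p.val p.isLt

theorem rep_gen : ∀ c < 5, ∃ g : G, Rep ([HEX0, HEX1, HEX2, HEX3, HEX4].getD c 0) g := by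
  intro c hc
  refine ⟨PresentedGroup.mk Rels (wordElt gc [c]), fun p => ?_⟩
  have h := phi_word [c] (by intro d hd; rw [List.mem_singleton] at hd; omega) p
  unfold act
  rw [h, wapp_cons, wapp_nil]
  interval_cases c
  · exact P0_eq _
  · exact P1_eq _
  · exact P2_eq _
  · exact P3_eq _
  · exact P4_eq _

theorem Rep.mul {a b c : ℕ} {g h : G} (hg : Rep a g) (hh : Rep b h)
    (e : ∀ q < 100, ap c q = ap b (ap a q)) : Rep c (g * h) := by
  intro p
  rw [act_mul, hg.apply p.isLt, hh.apply (hg.lt p.isLt)]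
  exact (e p.val p.isLt).symm

/-- a packed permutation represents some element of the group -/
def Repr (pk : ℕ) : Prop := ∃ g : G, Rep pk g

open Classical in
/-- the element of the group represented by a packed permutation -/
noncomputable def elt (pk : ℕ) : G := if h : Repr pk then Classical.choose h else 1

theorem rep_elt {pk : ℕ} (h : Repr pk) : Rep pk (elt pk) := by
  unfold elt
  rw [dif_pos h]
  exact Classical.choose_spec h

theorem elt_IDPK : elt IDPK = 1 := (rep_elt ⟨1, rep_one⟩).inj rep_one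

/-- all the points below 100 satisfy a test -/
def allPts (f : ℕ → Bool) : Bool := (List.range 100).all f

theorem allPts_spec {f : ℕ → Bool} (h : allPts f = true) {q : ℕ} (hq : q < 100) : f q = true :=
  List.all_eq_true.mp h q (List.mem_range.mpr hq)

/-- the check of a straight line program: each entry is the product of two earlier ones -/
def slpChk : List ℕ → List (ℕ × ℕ × ℕ) → Bool
  | _, [] => true
  | prev, e :: rest =>
    prev.contains e.2.1 && prev.contains e.2.2 &&
      allPts (fun q => ap e.1 q == ap e.2.2 (ap e.2.1 q)) && slpChk (e.1 :: prev) rest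

theorem slp_sound : ∀ (es : List (ℕ × ℕ × ℕ)) (prev : List ℕ), slpChk prev es = true →
    (∀ pk ∈ prev, Repr pk) → ∀ e ∈ es, Repr e.1 := by
  intro es
  induction es with
  | nil => intro _ _ _ e he; simp at he
  | cons e0 rest ih =>
    intro prev h hprev e he
    unfold slpChk at h
    simp only [Bool.and_eq_true, List.contains_iff_mem] at h
    obtain ⟨⟨⟨hA, hB⟩, hpts⟩, hrest⟩ := h
    have h0 : Repr e0.1 := by
      obtain ⟨g, hg⟩ := hprev _ hA
      obtain ⟨h, hh⟩ := hprev _ hB
      refine ⟨g * h, hg.mul hh fun q hq => ?_⟩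
      have := allPts_spec hpts hq
      simpa using this
    rcases List.mem_cons.mp he with rfl | he'
    · exact h0
    · refine ih (e0.1 :: prev) hrest ?_ e he'
      intro pk hpk
      rcases List.mem_cons.mp hpk with rfl | h'
      · exact h0
      · exact hprev pk h'

/-- the initial permutations: the five generators and the identity -/
def INIT : List ℕ := [HEX0, HEX1, HEX2, HEX3, HEX4, IDPK]

theorem init_repr : ∀ pk ∈ INIT, Repr pk := by
  intro pk hpk
  simp only [INIT, List.mem_cons, List.not_mem_nil, or_false] at hpk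
  rcases hpk with rfl | rfl | rfl | rfl | rfl | rfl
  · exact rep_gen 0 (by norm_num)
  · exact rep_gen 1 (by norm_num)
  · exact rep_gen 2 (by norm_num)
  · exact rep_gen 3 (by norm_num)
  · exact rep_gen 4 (by norm_num)
  · exact ⟨1, rep_one⟩

end Cfsg.Agent.Lib.Helper4.J2S
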