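import Cfsg.Agent.Lib.Helper4.J2S.Data

set_option autoImplicit false

/-! # The checks of the data -/

namespace Cfsg.Agent.Lib.Helper4.J2S

theorem slp_ok : slpChk INIT SLP = true := by decide +kernel

/-- all the packed permutations known to represent elements -/
def ALLPK : List ℕ := INIT ++ SLP.map (fun e => e.1)

theorem mem_ok : (TL ++ KL ++ UL).all (fun pk => ALLPK.contains pk) = true := by decide +kernel

theorem K_fix : KL.all (fun k => ap k 0 == 0 && ap k 3 == 3) = true := by decide +kernel

theorem U_fix : UL.all (fun u => ap u 0 == 0) = true := by decide +kernel

theorem K_nodup : (KL.map (fun k => (ap k 1, ap k 2))).Nodup := by decide +kernel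

theorem U_nodup : (UL.map (fun u => ap u 3)).Nodup := by decide +kernel

theorem length_KL : KL.length = 168 := by decide +kernel

theorem length_UL : UL.length = 36 := by decide +kernel

theorem length_TauL : TauL.length = 100 := by decide +kernel

theorem tau_img : TauL.map (fun e => ap e.2.2 (ap e.2.1 (ap e.1 0))) = List.range 100 := by
  decide +kernel

theorem tau_mem : TauL.all (fun e => TL.contains e.1 && KL.contains e.2.1 && UL.contains e.2.2) = true := by
  decide +kernel

theorem tau_head : TauL.head? = some (IDPK, IDPK, IDPK) := by decide +kernel

theorem id_mem : (TL.contains IDPK && KL.contains IDPK && UL.contains IDPK) = true := by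
  decide +kernel

end Cfsg.Agent.Lib.Helper4.J2S
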