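import Mathlib

set_option autoImplicit false

/-! # A group is the product of three sets given by a chain of stabilizers, by counting -/

namespace Cfsg.Agent.Lib.Helper4.J2S

open Classical in
theorem factor_all {G X : Type*} [Group G] [Finite G] (act : G → X → X)
    (act_mul : ∀ g h p, act (g * h) p = act h (act g p))
    (x y : X) (K U T : Finset G)
    (hK : ∀ k ∈ K, act k x = x ∧ act k y = y)
    (hU : ∀ u ∈ U, act u x = x)
    (hUinj : ∀ u ∈ U, ∀ u' ∈ U, act u y = act u' y → u = u')
    (hTinj : ∀ t ∈ T, ∀ t' ∈ T, act t x = act t' x → t = t')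
    (hcard : K.card * U.card * T.card = Nat.card G) :
    ∀ g : G, ∃ k ∈ K, ∃ u ∈ U, ∃ t ∈ T, g = k * u * t := by
  haveI : Fintype G := Fintype.ofFinite G
  set F : G × G × G → G := fun p => p.1 * p.2.1 * p.2.2 with hF
  set S : Finset (G × G × G) := K ×ˢ U ×ˢ T with hS
  have hinj : Set.InjOn F (S : Set (G × G × G)) := by
    rintro ⟨k, u, t⟩ hp ⟨k', u', t'⟩ hp' e
    simp only [hS, Finset.coe_product, Set.mem_prod, Finset.mem_coe] at hp hp'
    obtain ⟨hk, hu, ht⟩ := hp
    obtain ⟨hk', hu', ht'⟩ := hp'
    simp only [hF] at e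
    have e1 : act t x = act t' x := by
      have h1 : act (k * u * t) x = act t x := by
        rw [act_mul, act_mul, (hK k hk).1, hU u hu]
      have h2 : act (k' * u' * t') x = act t' x := by
        rw [act_mul, act_mul, (hK k' hk').1, hU u' hu']
      rw [← h1, ← h2, e]
    have et := hTinj t ht t' ht' e1
    subst et
    have e2 : k * u = k' * u' := mul_right_cancel e
    have e3 : act u y = act u' y := by
      have h1 : act (k * u) y = act u y := by rw [act_mul, (hK k hk).2]
      have h2 : act (k' * u') y = act u' y := by rw [act_mul, (hK k' hk').2]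
      rw [← h1, ← h2, e2]
    have eu := hUinj u hu u' hu' e3
    subst eu
    have ek : k = k' := mul_right_cancel e2
    subst ek
    rfl
  have hc : (S.image F).card = Fintype.card G := by
    rw [Finset.card_image_of_injOn hinj, hS, Finset.card_product, Finset.card_product,
      ← Nat.card_eq_fintype_card, ← hcard, mul_assoc]
  have huniv := Finset.eq_univ_of_card _ hc
  intro g
  have hg : g ∈ S.image F := by rw [huniv]; exact Finset.mem_univ g
  rw [Finset.mem_image] at hg
  obtain ⟨⟨k, u, t⟩, hp, e⟩ := hg
  simp only [hS, Finset.mem_product] at hp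
  exact ⟨k, hp.1, u, hp.2.1, t, hp.2.2, e.symm⟩

end Cfsg.Agent.Lib.Helper4.J2S
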