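import Cfsg.Agent.Lib.Helper4.J2S.Main

set_option autoImplicit false

/-! # Elements of all the orders, and the set of the orders of the elements -/

namespace Cfsg.Agent.Lib.Helper4.J2S

open Cfsg.Agent.Lib.Helper6.TCP.J2

/-- the check that a product of three listed elements has the given order -/
def exactChk (e : ℕ × ℕ × ℕ × ℕ) : Bool :=
  [0, 3, 1, 2].all (fun b => (f3 e.2.1 e.2.2.1 e.2.2.2)^[e.1] b == b) &&
  (List.range e.1).all (fun d => d == 0 ||
    [0, 3, 1, 2].any (fun b => (f3 e.2.1 e.2.2.1 e.2.2.2)^[d] b != b)) &&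
  TL.contains e.2.1 && KL.contains e.2.2.1 && UL.contains e.2.2.2 && decide (0 < e.1)

theorem ordL_ok : OrdL.all exactChk = true := by decide +kernel

theorem ordL_fst : OrdL.map (fun e => e.1) = [1, 2, 3, 4, 5, 6, 7, 8, 10, 12, 15] := by
  decide +kernel

theorem exists_orderOf {n : ℕ} (hn : n ∈ [1, 2, 3, 4, 5, 6, 7, 8, 10, 12, 15]) :
    ∃ g : G, orderOf g = n := by
  rw [← ordL_fst, List.mem_map] at hn
  obtain ⟨e, he, rfl⟩ := hn
  have hc := List.all_eq_true.mp ordL_ok e he
  unfold exactChk at hc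
  simp only [Bool.and_eq_true, List.contains_iff_mem, decide_eq_true_eq] at hc
  obtain ⟨⟨⟨⟨⟨hfix, hmov⟩, ht⟩, hk⟩, hu⟩, hpos⟩ := hc
  refine ⟨tau (e.2.1, e.2.2.1, e.2.2.2), ?_⟩
  have hf : ∀ q (hq : q < 100), (act (tau (e.2.1, e.2.2.1, e.2.2.2)) ⟨q, hq⟩).val =
      f3 e.2.1 e.2.2.1 e.2.2.2 q :=
    fun q hq => act_tau (repr_T ht) (repr_K hk) (repr_U hu) hq
  rw [orderOf_eq_iff hpos]
  constructor
  · have hit := act_iter hf e.1
    simp only [List.all_cons, List.all_nil, Bool.and_true, Bool.and_eq_true, beq_iff_eq] at hfix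
    obtain ⟨b0, b3, b1, b2⟩ := hfix
    refine base_one ?_ ?_ ?_ ?_
    · exact Fin.ext ((hit 0 (by norm_num)).trans b0)
    · exact Fin.ext ((hit 3 (by norm_num)).trans b3)
    · exact Fin.ext ((hit 1 (by norm_num)).trans b1)
    · exact Fin.ext ((hit 2 (by norm_num)).trans b2)
  · intro d hd hd0 hone
    have hit := act_iter hf d
    have h1 := List.all_eq_true.mp hmov d (List.mem_range.mpr hd)
    simp only [Bool.or_eq_true, beq_iff_eq] at h1
    rcases h1 with h1 | h1
    · omega
    · rw [List.any_eq_true] at h1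
      obtain ⟨b, hb, hne⟩ := h1
      have hb100 : b < 100 := by
        simp only [List.mem_cons, List.not_mem_nil, or_false] at hb
        rcases hb with rfl | rfl | rfl | rfl <;> norm_num
      have := hit b hb100
      rw [hone, act_one] at this
      simp only [bne_iff_ne, ne_eq] at hne
      exact hne this.symm

/-- the set of the orders of the elements of the presented group -/
theorem range_orderOf :
    Set.range (orderOf : G → ℕ) = {n | n ∈ [1, 2, 3, 4, 5, 6, 7, 8, 10, 12, 15]} := by
  ext n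
  constructor
  · rintro ⟨g, rfl⟩
    exact orderOf_mem g
  · intro hn
    exact exists_orderOf hn

end Cfsg.Agent.Lib.Helper4.J2S
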