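import Cfsg.Agent.Lib.Helper4.J2S.Ord0

set_option autoImplicit false

/-! # The orders of the elements of the three double cosets, continued -/

namespace Cfsg.Agent.Lib.Helper4.J2S

theorem ord_ok1 : KL.all (fun k => UL.all (fun u => ordChk (TL.getD 1 0) k u)) = true := by
  decide +kernel

end Cfsg.Agent.Lib.Helper4.J2S
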