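import Cfsg.Agent.Lib.Helper4.J2S.Chk
import Cfsg.Agent.Lib.Helper4.J2S.Count
import Cfsg.Agent.Lib.Helper4.J2S.Ord1
import Cfsg.Agent.Lib.Helper4.J2S.Ord2

set_option autoImplicit false

/-! # The orders of the elements of the presented group `J2` -/

namespace Cfsg.Agent.Lib.Helper4.J2S

open Cfsg.Agent.Lib.Helper6.TCP.J2
open Classical

theorem repr_all : ∀ pk ∈ ALLPK, Repr pk := by
  intro pk hpk
  unfold ALLPK at hpk
  rcases List.mem_append.mp hpk with h | h
  · exact init_repr pk h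
  · obtain ⟨e, he, rfl⟩ := List.mem_map.mp h
    exact slp_sound SLP INIT slp_ok init_repr e he

theorem repr_of_mem {pk : ℕ} (h : pk ∈ TL ++ KL ++ UL) : Repr pk := by
  have := List.all_eq_true.mp mem_ok pk h
  exact repr_all pk (List.contains_iff_mem.mp this)

theorem repr_T {pk : ℕ} (h : pk ∈ TL) : Repr pk :=
  repr_of_mem (List.mem_append_left _ (List.mem_append_left _ h))

theorem repr_K {pk : ℕ} (h : pk ∈ KL) : Repr pk :=
  repr_of_mem (List.mem_append_left _ (List.mem_append_right _ h))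

theorem repr_U {pk : ℕ} (h : pk ∈ UL) : Repr pk :=
  repr_of_mem (List.mem_append_right _ h)

theorem id_mem_T : IDPK ∈ TL := by
  have := id_mem
  simp only [Bool.and_eq_true, List.contains_iff_mem] at this
  exact this.1.1

theorem id_mem_K : IDPK ∈ KL := by
  have := id_mem
  simp only [Bool.and_eq_true, List.contains_iff_mem] at this
  exact this.1.2

theorem id_mem_U : IDPK ∈ UL := by
  have := id_mem
  simp only [Bool.and_eq_true, List.contains_iff_mem] at this
  exact this.2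

/-- the value of the action of a represented element -/
theorem act_elt {pk : ℕ} (h : Repr pk) {q : ℕ} (hq : q < 100) :
    (act (elt pk) ⟨q, hq⟩).val = ap pk q := rep_elt h ⟨q, hq⟩

theorem nodup_map_elt {α : Type*} (L : List ℕ) (f : ℕ → α) (F : G → α)
    (hF : ∀ pk ∈ L, F (elt pk) = f pk) (h : (L.map f).Nodup) : (L.map elt).Nodup := by
  have : L.map f = (L.map elt).map F := by
    rw [List.map_map]
    exact List.map_congr_left fun pk hpk => (hF pk hpk).symm
  rw [this] at h
  exact List.Nodup.of_map F h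

theorem K_fix0 {pk : ℕ} (h : pk ∈ KL) : act (elt pk) 0 = 0 := by
  have := List.all_eq_true.mp K_fix pk h
  simp only [Bool.and_eq_true, beq_iff_eq] at this
  exact Fin.ext ((act_elt (repr_K h) (by norm_num : 0 < 100)).trans this.1)

theorem K_fix3 {pk : ℕ} (h : pk ∈ KL) : act (elt pk) 3 = 3 := by
  have := List.all_eq_true.mp K_fix pk h
  simp only [Bool.and_eq_true, beq_iff_eq] at this
  exact Fin.ext ((act_elt (repr_K h) (by norm_num : 3 < 100)).trans this.2)

theorem U_fix0 {pk : ℕ} (h : pk ∈ UL) : act (elt pk) 0 = 0 := by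
  have := List.all_eq_true.mp U_fix pk h
  simp only [beq_iff_eq] at this
  exact Fin.ext ((act_elt (repr_U h) (by norm_num : 0 < 100)).trans this)

/-- the product of three represented elements -/
noncomputable def tau (e : ℕ × ℕ × ℕ) : G := elt e.1 * elt e.2.1 * elt e.2.2

theorem act_tau {e : ℕ × ℕ × ℕ} (h1 : Repr e.1) (h2 : Repr e.2.1) (h3 : Repr e.2.2) {q : ℕ}
    (hq : q < 100) : (act (tau e) ⟨q, hq⟩).val = f3 e.1 e.2.1 e.2.2 q := by
  unfold tau f3
  rw [act_mul, act_mul, (rep_elt h1).apply hq, (rep_elt h2).apply ((rep_elt h1).lt hq),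
    (rep_elt h3).apply ((rep_elt h2).lt ((rep_elt h1).lt hq))]

theorem tau_mem' {e : ℕ × ℕ × ℕ} (he : e ∈ TauL) : e.1 ∈ TL ∧ e.2.1 ∈ KL ∧ e.2.2 ∈ UL := by
  have := List.all_eq_true.mp tau_mem e he
  simp only [Bool.and_eq_true, List.contains_iff_mem] at this
  exact ⟨this.1.1, this.1.2, this.2⟩

/-- the stabilizer of two points, as a set of elements -/
noncomputable def KS : Finset G := (KL.map elt).toFinset
noncomputable def US : Finset G := (UL.map elt).toFinset
noncomputable def TS : Finset G := (TauL.map tau).toFinset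

theorem mem_KS {g : G} : g ∈ KS ↔ ∃ pk ∈ KL, elt pk = g := by
  unfold KS
  rw [List.mem_toFinset, List.mem_map]

theorem mem_US {g : G} : g ∈ US ↔ ∃ pk ∈ UL, elt pk = g := by
  unfold US
  rw [List.mem_toFinset, List.mem_map]

theorem mem_TS {g : G} : g ∈ TS ↔ ∃ e ∈ TauL, tau e = g := by
  unfold TS
  rw [List.mem_toFinset, List.mem_map]

theorem card_KS : KS.card = 168 := by
  unfold KS
  rw [List.toFinset_card_of_nodup, List.length_map, length_KL]
  refine nodup_map_elt KL (fun k => (ap k 1, ap k 2))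
    (fun g => ((act g 1).val, (act g 2).val)) ?_ K_nodup
  intro pk hpk
  show ((act (elt pk) 1).val, (act (elt pk) 2).val) = (ap pk 1, ap pk 2)
  rw [show (1 : Fin 100) = ⟨1, by norm_num⟩ from rfl, show (2 : Fin 100) = ⟨2, by norm_num⟩ from rfl,
    act_elt (repr_K hpk), act_elt (repr_K hpk)]

theorem card_US : US.card = 36 := by
  unfold US
  rw [List.toFinset_card_of_nodup, List.length_map, length_UL]
  refine nodup_map_elt UL (fun u => ap u 3) (fun g => (act g 3).val) ?_ U_nodup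
  intro pk hpk
  show (act (elt pk) 3).val = ap pk 3
  rw [show (3 : Fin 100) = ⟨3, by norm_num⟩ from rfl, act_elt (repr_U hpk)]

theorem act_tau_zero {e : ℕ × ℕ × ℕ} (he : e ∈ TauL) :
    (act (tau e) 0).val = ap e.2.2 (ap e.2.1 (ap e.1 0)) := by
  obtain ⟨h1, h2, h3⟩ := tau_mem' he
  exact act_tau (repr_T h1) (repr_K h2) (repr_U h3) (by norm_num : 0 < 100)

theorem tau_nodup : (TauL.map tau).Nodup := by
  have h : (TauL.map (fun e => ap e.2.2 (ap e.2.1 (ap e.1 0)))).Nodup := by
    rw [tau_img]; exact List.nodup_range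
  have : TauL.map (fun e => ap e.2.2 (ap e.2.1 (ap e.1 0))) =
      (TauL.map tau).map (fun g => (act g 0).val) := by
    rw [List.map_map]
    exact List.map_congr_left fun e he => (act_tau_zero he).symm
  rw [this] at h
  exact List.Nodup.of_map _ h

theorem card_TS : TS.card = 100 := by
  unfold TS
  rw [List.toFinset_card_of_nodup tau_nodup, List.length_map, length_TauL]

theorem tau_inj {e e' : ℕ × ℕ × ℕ} (he : e ∈ TauL) (he' : e' ∈ TauL)
    (h : act (tau e) 0 = act (tau e') 0) : tau e = tau e' := by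
  have h1 : (TauL.map (fun e => ap e.2.2 (ap e.2.1 (ap e.1 0)))).Nodup := by
    rw [tau_img]; exact List.nodup_range
  have h2 := List.inj_on_of_nodup_map h1 he he'
    (by rw [← act_tau_zero he, ← act_tau_zero he', h])
  rw [h2]

theorem one_mem_TS : (1 : G) ∈ TS := by
  rw [mem_TS]
  refine ⟨(IDPK, IDPK, IDPK), ?_, ?_⟩
  · have := tau_head
    rw [List.head?_eq_some_iff] at this
    obtain ⟨tl, htl⟩ := this
    rw [htl]
    exact List.mem_cons_self
  · unfold tau
    simp only [elt_IDPK, mul_one]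

theorem one_mem_US : (1 : G) ∈ US := mem_US.mpr ⟨IDPK, id_mem_U, elt_IDPK⟩

theorem one_mem_KS : (1 : G) ∈ KS := mem_KS.mpr ⟨IDPK, id_mem_K, elt_IDPK⟩

theorem U_inj {pk pk' : ℕ} (h : pk ∈ UL) (h' : pk' ∈ UL) (e : act (elt pk) 3 = act (elt pk') 3) :
    pk = pk' := by
  refine List.inj_on_of_nodup_map U_nodup h h' ?_
  show ap pk 3 = ap pk' 3
  have := congrArg Fin.val e
  rw [show (3 : Fin 100) = ⟨3, by norm_num⟩ from rfl, act_elt (repr_U h), act_elt (repr_U h')] at this
  exact this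

/-- every element is a product of elements of the three sets -/
theorem factor (g : G) : ∃ k ∈ KS, ∃ u ∈ US, ∃ t ∈ TS, g = k * u * t := by
  refine factor_all act act_mul 0 3 KS US TS ?_ ?_ ?_ ?_ ?_ g
  · intro k hk
    obtain ⟨pk, hpk, rfl⟩ := mem_KS.mp hk
    exact ⟨K_fix0 hpk, K_fix3 hpk⟩
  · intro u hu
    obtain ⟨pk, hpk, rfl⟩ := mem_US.mp hu
    exact U_fix0 hpk
  · intro u hu u' hu' e
    obtain ⟨pk, hpk, rfl⟩ := mem_US.mp hu
    obtain ⟨pk', hpk', rfl⟩ := mem_US.mp hu'
    rw [U_inj hpk hpk' e]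
  · intro t ht t' ht' e
    obtain ⟨e1, he1, rfl⟩ := mem_TS.mp ht
    obtain ⟨e2, he2, rfl⟩ := mem_TS.mp ht'
    exact tau_inj he1 he2 e
  · rw [card_KS, card_US, card_TS, card_G]

/-- the elements of the stabilizer of the first point -/
theorem stab0 {g : G} (h : act g 0 = 0) : ∃ pk ∈ KL, ∃ pu ∈ UL, g = elt pk * elt pu := by
  obtain ⟨k, hk, u, hu, t, ht, rfl⟩ := factor g
  obtain ⟨pk, hpk, rfl⟩ := mem_KS.mp hk
  obtain ⟨pu, hpu, rfl⟩ := mem_US.mp hu
  obtain ⟨e, he, rfl⟩ := mem_TS.mp ht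
  rw [act_mul, act_mul, K_fix0 hpk, U_fix0 hpu] at h
  obtain ⟨e1, he1, h1⟩ := mem_TS.mp one_mem_TS
  have : tau e = 1 := by
    rw [← h1]
    refine tau_inj he he1 ?_
    rw [h, h1, act_one]
  rw [this, mul_one]
  exact ⟨pk, hpk, pu, hpu, rfl⟩

/-- the elements of the stabilizer of the first two points -/
theorem stab03 {g : G} (h : act g 0 = 0) (h3 : act g 3 = 3) : ∃ pk ∈ KL, g = elt pk := by
  obtain ⟨pk, hpk, pu, hpu, rfl⟩ := stab0 h
  rw [act_mul, K_fix3 hpk] at h3
  have : pu = IDPK := by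
    refine U_inj hpu id_mem_U ?_
    rw [h3, elt_IDPK, act_one]
  rw [this, elt_IDPK, mul_one]
  exact ⟨pk, hpk, rfl⟩

/-- the four points form a base -/
theorem base_one {g : G} (h0 : act g 0 = 0) (h3 : act g 3 = 3) (h1 : act g 1 = 1)
    (h2 : act g 2 = 2) : g = 1 := by
  obtain ⟨pk, hpk, rfl⟩ := stab03 h0 h3
  have : pk = IDPK := by
    refine List.inj_on_of_nodup_map K_nodup hpk id_mem_K ?_
    show (ap pk 1, ap pk 2) = (ap IDPK 1, ap IDPK 2)
    have e1 := congrArg Fin.val h1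
    have e2 := congrArg Fin.val h2
    rw [show (1 : Fin 100) = ⟨1, by norm_num⟩ from rfl, act_elt (repr_K hpk)] at e1
    rw [show (2 : Fin 100) = ⟨2, by norm_num⟩ from rfl, act_elt (repr_K hpk)] at e2
    rw [e1, e2]
    decide +kernel
  rw [this, elt_IDPK]

/-- every element is conjugate to a product of three listed elements -/
theorem exists_conj (g : G) : ∃ pt ∈ TL, ∃ pk ∈ KL, ∃ pu ∈ UL, ∃ a : G,
    g = a * tau (pt, pk, pu) * a⁻¹ := by
  obtain ⟨k, hk, u, hu, t, ht, rfl⟩ := factor g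
  obtain ⟨pk, hpk, rfl⟩ := mem_KS.mp hk
  obtain ⟨pu, hpu, rfl⟩ := mem_US.mp hu
  obtain ⟨e, he, rfl⟩ := mem_TS.mp ht
  obtain ⟨h1, h2, h3⟩ := tau_mem' he
  -- the element `b * a` of the stabilizer
  have hs : act (elt e.2.1 * elt e.2.2 * (elt pk * elt pu)) 0 = 0 := by
    rw [act_mul, act_mul, act_mul, K_fix0 h2, U_fix0 h3, K_fix0 hpk, U_fix0 hpu]
  obtain ⟨pk', hpk', pu', hpu', e'⟩ := stab0 hs
  refine ⟨e.1, h1, pk', hpk', pu', hpu', elt pk * elt pu, ?_⟩
  unfold tau
  show elt pk * elt pu * (elt e.1 * elt e.2.1 * elt e.2.2) =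
    elt pk * elt pu * (elt e.1 * elt pk' * elt pu') * (elt pk * elt pu)⁻¹
  rw [mul_assoc (elt e.1) (elt pk') (elt pu'), ← e']
  group

theorem act_iter {m : G} {f : ℕ → ℕ} (hf : ∀ q (hq : q < 100), (act m ⟨q, hq⟩).val = f q) (n : ℕ) :
    ∀ q (hq : q < 100), (act (m ^ n) ⟨q, hq⟩).val = f^[n] q := by
  induction n with
  | zero =>
    intro q hq
    rw [pow_zero, act_one, Function.iterate_zero, id]
  | succ n ih =>
    intro q hq
    rw [pow_succ', act_mul, Function.iterate_succ, Function.comp]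
    have h1 : act m ⟨q, hq⟩ = ⟨f q, by rw [← hf q hq]; exact Fin.is_lt _⟩ := Fin.ext (hf q hq)
    rw [h1, ih]

theorem ordChk_all {pt pk pu : ℕ} (ht : pt ∈ TL) (hk : pk ∈ KL) (hu : pu ∈ UL) :
    ordChk pt pk pu = true := by
  have hTL : TL = [TL.getD 0 0, TL.getD 1 0, TL.getD 2 0] := by decide +kernel
  rw [hTL] at ht
  simp only [List.mem_cons, List.not_mem_nil, or_false] at ht
  rcases ht with rfl | rfl | rfl
  · exact List.all_eq_true.mp (List.all_eq_true.mp ord_ok0 pk hk) pu hu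
  · exact List.all_eq_true.mp (List.all_eq_true.mp ord_ok1 pk hk) pu hu
  · exact List.all_eq_true.mp (List.all_eq_true.mp ord_ok2 pk hk) pu hu

theorem pow_tau {pt pk pu : ℕ} (ht : pt ∈ TL) (hk : pk ∈ KL) (hu : pu ∈ UL) :
    ∃ n ∈ [12, 10, 7, 8, 15], tau (pt, pk, pu) ^ n = 1 := by
  have h := ordChk_all ht hk hu
  unfold ordChk at h
  rw [List.any_eq_true] at h
  obtain ⟨n, hn, hb⟩ := h
  refine ⟨n, hn, ?_⟩
  have hf : ∀ q (hq : q < 100), (act (tau (pt, pk, pu)) ⟨q, hq⟩).val = f3 pt pk pu q :=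
    fun q hq => act_tau (repr_T ht) (repr_K hk) (repr_U hu) hq
  have hit := act_iter hf n
  simp only [List.all_cons, List.all_nil, Bool.and_true, Bool.and_eq_true, beq_iff_eq] at hb
  obtain ⟨b0, b3, b1, b2⟩ := hb
  refine base_one ?_ ?_ ?_ ?_
  · exact Fin.ext ((hit 0 (by norm_num)).trans b0)
  · exact Fin.ext ((hit 3 (by norm_num)).trans b3)
  · exact Fin.ext ((hit 1 (by norm_num)).trans b1)
  · exact Fin.ext ((hit 2 (by norm_num)).trans b2)

/-- every element has a trivial power with exponent in the list -/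
theorem exists_pow (g : G) : ∃ n ∈ [12, 10, 7, 8, 15], g ^ n = 1 := by
  obtain ⟨pt, ht, pk, hk, pu, hu, a, rfl⟩ := exists_conj g
  obtain ⟨n, hn, e⟩ := pow_tau ht hk hu
  refine ⟨n, hn, ?_⟩
  rw [conj_pow, e, mul_one, mul_inv_cancel]

theorem orderOf_mem (g : G) : orderOf g ∈ [1, 2, 3, 4, 5, 6, 7, 8, 10, 12, 15] := by
  obtain ⟨n, hn, e⟩ := exists_pow g
  have hd := orderOf_dvd_of_pow_eq_one e
  simp only [List.mem_cons, List.not_mem_nil, or_false] at hn
  rcases hn with rfl | rfl | rfl | rfl | rfl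
  · have := Nat.le_of_dvd (by norm_num) hd
    interval_cases (orderOf g) <;> first | (simp; done) | (exfalso; revert hd; decide)
  · have := Nat.le_of_dvd (by norm_num) hd
    interval_cases (orderOf g) <;> first | (simp; done) | (exfalso; revert hd; decide)
  · have := Nat.le_of_dvd (by norm_num) hd
    interval_cases (orderOf g) <;> first | (simp; done) | (exfalso; revert hd; decide)
  · have := Nat.le_of_dvd (by norm_num) hd
    interval_cases (orderOf g) <;> first | (simp; done) | (exfalso; revert hd; decide)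
  · have := Nat.le_of_dvd (by norm_num) hd
    interval_cases (orderOf g) <;> first | (simp; done) | (exfalso; revert hd; decide)

end Cfsg.Agent.Lib.Helper4.J2S
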