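import Cfsg.Agent.Lib.Helper4.J2S.Data

set_option autoImplicit false

/-! # The orders of the elements of the three double cosets -/

namespace Cfsg.Agent.Lib.Helper4.J2S

/-- the product of three packed permutations, at a point -/
def f3 (t k u q : ℕ) : ℕ := ap u (ap k (ap t q))

/-- some power with exponent in the list fixes the four points of the base -/
def ordChk (t k u : ℕ) : Bool :=
  [12, 10, 7, 8, 15].any (fun n => [0, 3, 1, 2].all (fun b => (f3 t k u)^[n] b == b))

theorem ord_ok0 : KL.all (fun k => UL.all (fun u => ordChk (TL.getD 0 0) k u)) = true := by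
  decide +kernel

end Cfsg.Agent.Lib.Helper4.J2S
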