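import Mathlib
import Cfsg.Agent.Lib.Helper5.AltOrders

set_option autoImplicit false

/-! # The orders of the elements of the symmetric groups, from the partitions -/

namespace Cfsg.Agent.Lib.Helper4.J2S

open Cfsg.Agent.Lib.Helper5

theorem mem_range_orderOf_perm_iff (n k : ℕ) :
    k ∈ Set.range (orderOf : Equiv.Perm (Fin n) → ℕ) ↔
      ∃ m : Multiset ℕ, m.sum ≤ n ∧ (∀ a ∈ m, 2 ≤ a) ∧ m.lcm = k := by
  constructor
  · rintro ⟨σ, rfl⟩
    refine ⟨σ.cycleType, ?_, fun a ha => Equiv.Perm.two_le_of_mem_cycleType ha, ?_⟩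
    · simpa using σ.sum_cycleType_le
    · rw [Equiv.Perm.lcm_cycleType]
  · rintro ⟨m, hsum, h2, rfl⟩
    obtain ⟨σ, hσ⟩ := (Equiv.Perm.exists_with_cycleType_iff (α := Fin n) (m := m)).2
      ⟨by simpa using hsum, h2⟩
    refine ⟨σ, ?_⟩
    rw [← Equiv.Perm.lcm_cycleType, hσ]

theorem mem_range_orderOf_perm_iff_list (n k : ℕ) :
    k ∈ Set.range (orderOf : Equiv.Perm (Fin n) → ℕ) ↔
      ∃ l ∈ partsAux n n n, listLcm l = k ∧ l.sum ≤ n ∧ ∀ a ∈ l, 2 ≤ a := by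
  rw [mem_range_orderOf_perm_iff]
  constructor
  · rintro ⟨m, hsum, h2, hlcm⟩
    obtain ⟨l, hl, rfl⟩ := exists_mem_partsAux n m h2 hsum
    refine ⟨l, hl, ?_, ?_, ?_⟩
    · rw [← multiset_lcm_coe, hlcm]
    · simpa using hsum
    · simpa using h2
  · rintro ⟨l, _, hlcm, hsum, h2⟩
    refine ⟨(l : Multiset ℕ), by simpa using hsum, by simpa using h2, ?_⟩
    rw [multiset_lcm_coe, hlcm]

theorem s8_forward : ∀ l ∈ partsAux 8 8 8, listLcm l ∈ [1, 2, 3, 4, 5, 6, 7, 8, 10, 12, 15] := by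
  decide

theorem s8_backward : ∀ k ∈ [1, 2, 3, 4, 5, 6, 7, 8, 10, 12, 15], ∃ l ∈ partsAux 8 8 8,
    listLcm l = k ∧ l.sum ≤ 8 ∧ ∀ a ∈ l, 2 ≤ a := by
  decide

/-- the set of the orders of the elements of the symmetric group of degree eight -/
theorem s8_spectrum : Set.range (orderOf : Equiv.Perm (Fin 8) → ℕ) =
    {n | n ∈ [1, 2, 3, 4, 5, 6, 7, 8, 10, 12, 15]} := by
  ext k
  rw [mem_range_orderOf_perm_iff_list]
  constructor
  · rintro ⟨l, hl, rfl, -, -⟩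
    exact s8_forward l hl
  · intro hk
    exact s8_backward k hk

end Cfsg.Agent.Lib.Helper4.J2S
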